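import Mathlib

/-!
# Class numbers across a subgroup of index two
-/

set_option autoImplicit false

namespace Cfsg.Agent.IndexTwo

variable {G : Type*} [Group G] [Finite G]

/-- The classes meeting a predicate. -/
abbrev PClasses (P : G → Prop) := {C : ConjClasses G // ∃ x, ConjClasses.mk x = C ∧ P x}

open scoped Classical in
/-- Commuting pairs with first member in a union of classes. -/
theorem card_pairs (P : G → Prop) (hP : ∀ g x, P x → P (g * x * g⁻¹)) :
    Nat.card {p : G × G // P p.1 ∧ Commute p.1 p.2} = Nat.card G * Nat.card (PClasses P) := by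
  have := Fintype.ofFinite G
  let e : {p : G × G // P p.1 ∧ Commute p.1 p.2} ≃ Σ x : {x // P x}, Subgroup.centralizer ({x.1} : Set G) :=
    { toFun := fun p => ⟨⟨p.1.1, p.2.1⟩, p.1.2, Subgroup.mem_centralizer_singleton_iff.2 p.2.2.symm.eq⟩
      invFun := fun p => ⟨(p.1.1, p.2.1), p.1.2,
        (show Commute p.2.1 p.1.1 from Subgroup.mem_centralizer_singleton_iff.1 p.2.2).symm⟩
      left_inv := fun p => rfl
      right_inv := fun p => rfl }
  have hcarrier : ∀ x : G, Nat.card (ConjClasses.mk x).carrier * Nat.card (Subgroup.centralizer ({x} : Set G)) =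
      Nat.card G := by
    intro x
    rw [Subgroup.nat_card_centralizer_nat_card_stabilizer, ← ConjAct.orbit_eq_carrier_conjClasses,
      Nat.card_congr (ConjAct.toConjAct : G ≃* ConjAct G).toEquiv, ← Nat.card_prod]
    exact Nat.card_congr (MulAction.orbitProdStabilizerEquivGroup (ConjAct G) x)
  have hclos : ∀ {x y : G}, ConjClasses.mk x = ConjClasses.mk y → P x → P y := fun {x y} h hx => by
    obtain ⟨g, rfl⟩ := isConj_iff.1 (ConjClasses.mk_eq_mk_iff_isConj.1 h)
    exact hP g x hx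
  rw [Nat.card_congr e, Nat.card_sigma,
    ← Finset.sum_fiberwise Finset.univ (fun x : {x // P x} => (⟨ConjClasses.mk x.1, x.1, rfl, x.2⟩ : PClasses P)),
    Finset.sum_congr rfl (g := fun _ => Nat.card G), Finset.sum_const, Finset.card_univ, smul_eq_mul,
    ← Nat.card_eq_fintype_card, mul_comm]
  intro C _
  obtain ⟨x0, hx0, hPx0⟩ := C.2
  rw [← hcarrier x0]
  have hconst : ∀ x ∈ Finset.univ.filter (fun x : {x // P x} => (⟨ConjClasses.mk x.1, x.1, rfl, x.2⟩ : PClasses P) = C),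
      Nat.card (Subgroup.centralizer ({x.1} : Set G)) = Nat.card (Subgroup.centralizer ({x0} : Set G)) := by
    intro x hx
    have h1 : ConjClasses.mk x.1 = ConjClasses.mk x0 :=
      (congrArg Subtype.val (Finset.mem_filter.1 hx).2).trans hx0.symm
    have h2 : (ConjClasses.mk x.1).carrier = (ConjClasses.mk x0).carrier := by rw [h1]
    have e1 := hcarrier x.1
    rw [h2, ← hcarrier x0] at e1
    haveI : Nonempty (ConjClasses.mk x0).carrier := ⟨⟨x0, ConjClasses.mem_carrier_mk⟩⟩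
    exact Nat.eq_of_mul_eq_mul_left Nat.card_pos e1
  rw [Finset.sum_congr rfl hconst, Finset.sum_const, smul_eq_mul, ← Fintype.card_subtype, ← Nat.card_eq_fintype_card]
  congr 1
  exact Nat.card_congr
    { toFun := fun x => ⟨x.1.1, ConjClasses.mem_carrier_iff_mk_eq.2 ((congrArg Subtype.val x.2).trans hx0.symm)⟩
      invFun := fun y => ⟨⟨y.1, hclos (ConjClasses.mem_carrier_iff_mk_eq.1 y.2).symm hPx0⟩,
        Subtype.ext ((ConjClasses.mem_carrier_iff_mk_eq.1 y.2).trans hx0)⟩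
      left_inv := fun x => rfl
      right_inv := fun y => rfl }

theorem sig_cases (σ : G →* ℤˣ) (x : G) : σ x = 1 ∨ σ x = -1 := Int.units_eq_one_or _

/-- A central element outside the kernel doubles the classes. -/
theorem two_mul_pclasses_ker_le (σ : G →* ℤˣ) {z : G} (hz : ∀ g, Commute z g) (hσ : σ z = -1) (P : G → Prop)
    (hPz : ∀ g, P g → P (z * g)) :
    2 * Nat.card (PClasses fun x : σ.ker => P x.1) ≤ Nat.card (PClasses P) := by
  let rep : Bool → σ.ker → G := fun b x => if b then z * x.1 else x.1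
  have hσrep : ∀ b x, σ (rep b x) = if b then -1 else 1 := fun b x => by
    cases b <;> simp [rep, hσ, MonoidHom.mem_ker.1 x.2]
  choose r hr1 hr2 using fun C : PClasses fun x : σ.ker => P x.1 => C.2
  have hin : ∀ b C, P (rep b (r C)) := fun b C => by
    cases b
    · exact hr2 C
    · exact hPz _ (hr2 C)
  let f : Bool × PClasses (fun x : σ.ker => P x.1) → PClasses P := fun p =>
    ⟨ConjClasses.mk (rep p.1 (r p.2)), _, rfl, hin _ _⟩
  have hf : Function.Injective f := by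
    rintro ⟨b, C⟩ ⟨b', C'⟩ h
    obtain ⟨g, hg⟩ := isConj_iff.1 (ConjClasses.mk_eq_mk_iff_isConj.1 (congrArg Subtype.val h))
    have hb := congrArg σ hg
    rw [map_mul, map_mul, map_inv, mul_comm (σ g), mul_assoc, mul_inv_cancel, mul_one, hσrep, hσrep] at hb
    have hbb : b = b' := by cases b <;> cases b' <;> simp at hb ⊢
    subst hbb
    have hx : g * (r C).1 * g⁻¹ = (r C').1 := by
      cases b
      · exact hg
      · have e : g * (z * (r C).1) * g⁻¹ = z * (g * (r C).1 * g⁻¹) := by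
          rw [← mul_assoc g, ← (hz g).eq]; simp only [mul_assoc]
        exact mul_left_cancel (e ▸ (hg : g * (z * (r C).1) * g⁻¹ = z * (r C').1))
    refine Prod.ext rfl (Subtype.ext ?_)
    rw [← hr1 C, ← hr1 C']
    refine ConjClasses.mk_eq_mk_iff_isConj.2 (isConj_iff.2 ?_)
    rcases sig_cases σ g with h1 | h1
    · exact ⟨⟨g, h1⟩, Subtype.ext hx⟩
    · refine ⟨⟨g * z, by rw [MonoidHom.mem_ker, map_mul, h1, hσ]; rfl⟩, Subtype.ext ?_⟩
      show g * z * (r C).1 * (g * z)⁻¹ = (r C').1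
      rw [← hx, mul_inv_rev, show g * z * (r C).1 * (z⁻¹ * g⁻¹) = g * (z * (r C).1 * z⁻¹) * g⁻¹ by group,
        (hz (r C).1).eq, mul_inv_cancel_right]
  simpa [Nat.card_prod] using Nat.card_le_card_of_injective f hf

/-- A central element outside the kernel: no more than twice the classes of the kernel. -/
theorem card_le_two_mul_ker (σ : G →* ℤˣ) {z : G} (hz : ∀ g, Commute z g) (hσ : σ z = -1) :
    Nat.card (ConjClasses G) ≤ 2 * Nat.card (ConjClasses σ.ker) := by
  let f : Bool × ConjClasses σ.ker → ConjClasses G := fun p =>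
    ConjClasses.mk (if p.1 then z * p.2.out.1 else p.2.out.1)
  have hf : Function.Surjective f := fun C => by
    obtain ⟨g, rfl⟩ := ConjClasses.mk_surjective C
    obtain ⟨b, x, hx⟩ : ∃ (b : Bool) (x : σ.ker), g = if b then z * x.1 else x.1 := by
      rcases sig_cases σ g with h | h
      · exact ⟨false, ⟨g, h⟩, rfl⟩
      · exact ⟨true, ⟨z⁻¹ * g, by rw [MonoidHom.mem_ker, map_mul, map_inv, h, hσ, inv_mul_cancel]⟩, by simp⟩
    refine ⟨(b, ConjClasses.mk x), ConjClasses.mk_eq_mk_iff_isConj.2 ?_⟩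
    have h1 : IsConj (ConjClasses.mk x).out x := ConjClasses.mk_eq_mk_iff_isConj.1 (Quotient.out_eq _)
    obtain ⟨c, hc⟩ := isConj_iff.1 (σ.ker.subtype.map_isConj h1)
    simp only [Subgroup.coe_subtype] at hc
    refine isConj_iff.2 ⟨c, ?_⟩
    subst hx
    cases b
    · exact hc
    · simp only [if_true]
      rw [← mul_assoc c, ← (hz c).eq, mul_assoc, mul_assoc, ← mul_assoc c, hc]
  simpa [Nat.card_prod] using Nat.card_le_card_of_surjective f hf

open scoped Classical in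
/-- The class numbers of a group and of a kernel of index at most two. -/
theorem ker_bounds (σ : G →* ℤˣ) (bad : G → Prop)
    (hbad : ∀ x, σ x = 1 → ¬ bad x → ∃ y, Commute x y ∧ σ y = -1) :
    2 * Nat.card (ConjClasses σ.ker) ≤ Nat.card (ConjClasses G) + 3 * Nat.card (PClasses bad) ∧
      Nat.card (ConjClasses G) ≤ 2 * Nat.card (ConjClasses σ.ker) ∧
      Nat.card (ConjClasses σ.ker) ≤ 2 * Nat.card (ConjClasses G) := by
  have := Fintype.ofFinite G
  let NS : G → Prop := fun x => σ x = 1 ∧ ∃ y, Commute x y ∧ σ y = -1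
  let SP : G → Prop := fun x => σ x = 1 ∧ ∀ y, Commute x y → σ y = 1
  have hσc : ∀ g x : G, σ (g * x * g⁻¹) = σ x := fun g x => by
    rw [map_mul, map_mul, map_inv, mul_comm (σ g), mul_assoc, mul_inv_cancel, mul_one]
  have hcc : ∀ g x y : G, Commute x y → Commute (g * x * g⁻¹) (g * y * g⁻¹) := fun g x y h =>
    (Commute.conj_iff (h := g)).2 h
  have hNS : ∀ g x, NS x → NS (g * x * g⁻¹) := fun g x ⟨h1, y, h2, h3⟩ =>
    ⟨(hσc g x).trans h1, g * y * g⁻¹, hcc g x y h2, (hσc g y).trans h3⟩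
  have hSP : ∀ g x, SP x → SP (g * x * g⁻¹) := fun g x ⟨h1, h2⟩ => ⟨(hσc g x).trans h1, fun y hy => by
    have := h2 _ (by simpa [mul_assoc] using hcc g⁻¹ _ y hy)
    rwa [map_mul, map_mul, mul_comm (σ g⁻¹), mul_assoc, ← map_mul, mul_inv_cancel, map_one, mul_one] at this⟩
  have hOUT : ∀ g x, σ x = -1 → σ (g * x * g⁻¹) = -1 := fun g x h => (hσc g x).trans h
  have hne : (1 : ℤˣ) ≠ -1 := by decide
  -- outer classes and inner classes with an outer centralizing element
  let T : ℤˣ → ℤˣ → Type _ := fun a b => {p : G × G // (σ p.1 = a ∧ σ p.2 = b) ∧ Commute p.1 p.2}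
  have e1 : T (-1) (-1) ≃ T (-1) 1 :=
    { toFun := fun p => ⟨(p.1.1, p.1.1 * p.1.2), ⟨p.2.1.1, by rw [map_mul, p.2.1.1, p.2.1.2]; rfl⟩,
        (Commute.refl p.1.1).mul_right p.2.2⟩
      invFun := fun p => ⟨(p.1.1, p.1.1⁻¹ * p.1.2), ⟨p.2.1.1, by rw [map_mul, map_inv, p.2.1.1, p.2.1.2]; rfl⟩,
        ((Commute.refl p.1.1).inv_right).mul_right p.2.2⟩
      left_inv := fun p => Subtype.ext (Prod.ext rfl (inv_mul_cancel_left _ _))
      right_inv := fun p => Subtype.ext (Prod.ext rfl (mul_inv_cancel_left _ _)) }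
  have e2 : T (-1) 1 ≃ T 1 (-1) :=
    { toFun := fun p => ⟨(p.1.2, p.1.1), ⟨p.2.1.2, p.2.1.1⟩, p.2.2.symm⟩
      invFun := fun p => ⟨(p.1.2, p.1.1), ⟨p.2.1.2, p.2.1.1⟩, p.2.2.symm⟩
      left_inv := fun p => rfl
      right_inv := fun p => rfl }
  have hout : Nat.card {p : G × G // σ p.1 = -1 ∧ Commute p.1 p.2} = 2 * Nat.card (T (-1) 1) := by
    rw [two_mul]
    nth_rw 1 [← Nat.card_congr e1]
    rw [← Nat.card_sum]
    refine Nat.card_congr
      { toFun := fun p => if h : σ p.1.2 = -1 then Sum.inl ⟨p.1, ⟨p.2.1, h⟩, p.2.2⟩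
          else Sum.inr ⟨p.1, ⟨p.2.1, (sig_cases σ p.1.2).resolve_right h⟩, p.2.2⟩
        invFun := Sum.elim (fun p => ⟨p.1, p.2.1.1, p.2.2⟩) fun p => ⟨p.1, p.2.1.1, p.2.2⟩
        left_inv := fun p => by by_cases h : σ p.1.2 = -1 <;> simp [h]
        right_inv := fun p => by
          rcases p with p | p
          · simp [p.2.1.2]
          · simp [p.2.1.2, hne] }
  have hns : Nat.card {p : G × G // NS p.1 ∧ Commute p.1 p.2} = 2 * Nat.card (T 1 (-1)) := by
    have hNS' : ∀ (p : G × G), σ p.1 = 1 → σ p.2 = -1 → Commute p.1 p.2 → NS p.1 := fun p a b c => ⟨a, p.2, c, b⟩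
    choose y hy1 hy2 using fun x : {x // NS x} => x.2.2
    rw [two_mul, ← Nat.card_sum]
    refine Nat.card_congr
      { toFun := fun p => if h : σ p.1.2 = -1 then Sum.inl ⟨p.1, ⟨p.2.1.1, h⟩, p.2.2⟩
          else Sum.inr ⟨(p.1.1, y ⟨p.1.1, p.2.1⟩ * p.1.2),
            ⟨p.2.1.1, by rw [map_mul, hy2, (sig_cases σ p.1.2).resolve_right h, mul_one]⟩,
            (hy1 ⟨p.1.1, p.2.1⟩).mul_right p.2.2⟩
        invFun := Sum.elim (fun p => ⟨p.1, hNS' p.1 p.2.1.1 p.2.1.2 p.2.2, p.2.2⟩)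
          fun p => ⟨(p.1.1, (y ⟨p.1.1, hNS' p.1 p.2.1.1 p.2.1.2 p.2.2⟩)⁻¹ * p.1.2),
            hNS' p.1 p.2.1.1 p.2.1.2 p.2.2, (hy1 ⟨p.1.1, _⟩).inv_right.mul_right p.2.2⟩
        left_inv := fun p => by by_cases h : σ p.1.2 = -1 <;> simp [h]
        right_inv := fun p => by
          rcases p with p | p
          · simp [p.2.1.2]
          · simp [p.2.1.2, hy2, hne] }
  have hA : Nat.card (PClasses fun x : G => σ x = -1) = Nat.card (PClasses NS) := by
    refine Nat.eq_of_mul_eq_mul_left (Nat.card_pos (α := G)) ?_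
    rw [← card_pairs _ hOUT, ← card_pairs _ hNS, hout, hns, Nat.card_congr e2]
  -- the three kinds of classes
  have hP : ∀ (P : G → Prop), (∀ g x, P x → P (g * x * g⁻¹)) → ∀ x,
      (∃ y, ConjClasses.mk y = ConjClasses.mk x ∧ P y) → P x := fun P hP x ⟨y, hy, hy'⟩ => by
    obtain ⟨g, rfl⟩ := isConj_iff.1 (ConjClasses.mk_eq_mk_iff_isConj.1 hy)
    exact hP g y hy'
  have hex : ∀ x, (σ x = -1 ∧ ¬ NS x ∧ ¬ SP x) ∨ (σ x ≠ -1 ∧ NS x ∧ ¬ SP x) ∨ (σ x ≠ -1 ∧ ¬ NS x ∧ SP x) := by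
    intro x
    rcases sig_cases σ x with h | h
    · refine Or.inr ?_
      by_cases h' : ∃ y, Commute x y ∧ σ y = -1
      · exact Or.inl ⟨h ▸ hne, ⟨h, h'⟩, fun hs => by obtain ⟨y, a, b⟩ := h'; exact hne ((hs.2 y a).symm.trans b)⟩
      · exact Or.inr ⟨h ▸ hne, fun hn => h' hn.2, h, fun y hy => (sig_cases σ y).resolve_right fun b => h' ⟨y, hy, b⟩⟩
    · exact Or.inl ⟨h, fun hn => hne (hn.1.symm.trans h), fun hs => hne (hs.1.symm.trans h)⟩
  have hcard : ∀ P : G → Prop, Nat.card (PClasses P) =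
      ∑ C : ConjClasses G, if ∃ x, ConjClasses.mk x = C ∧ P x then 1 else 0 := fun P => by
    rw [Nat.card_eq_fintype_card, Fintype.card_subtype, Finset.card_filter]
  have htot : Nat.card (ConjClasses G) =
      Nat.card (PClasses fun x : G => σ x = -1) + Nat.card (PClasses NS) + Nat.card (PClasses SP) := by
    rw [hcard, hcard, hcard, ← Finset.sum_add_distrib, ← Finset.sum_add_distrib, Nat.card_eq_fintype_card,
      Fintype.card_eq_sum_ones]
    refine Finset.sum_congr rfl fun C _ => ?_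
    obtain ⟨x, rfl⟩ := ConjClasses.mk_surjective C
    have i1 : (∃ y, ConjClasses.mk y = ConjClasses.mk x ∧ σ y = -1) ↔ σ x = -1 :=
      ⟨hP _ hOUT x, fun h => ⟨x, rfl, h⟩⟩
    have i2 : (∃ y, ConjClasses.mk y = ConjClasses.mk x ∧ NS y) ↔ NS x := ⟨hP _ hNS x, fun h => ⟨x, rfl, h⟩⟩
    have i3 : (∃ y, ConjClasses.mk y = ConjClasses.mk x ∧ SP y) ↔ SP x := ⟨hP _ hSP x, fun h => ⟨x, rfl, h⟩⟩
    simp only [i1, i2, i3]
    rcases hex x with ⟨a, b, c⟩ | ⟨a, b, c⟩ | ⟨a, b, c⟩ <;> simp [a, b, c]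
  have hSPbad : Nat.card (PClasses SP) ≤ Nat.card (PClasses bad) := by
    refine Nat.card_le_card_of_injective (Subtype.map id fun C ⟨x, hx, h⟩ => ⟨x, hx, ?_⟩)
      (Subtype.map_injective _ Function.injective_id)
    by_contra hb
    obtain ⟨y, a, b⟩ := hbad x h.1 hb
    exact hne ((h.2 y a).symm.trans b)
  -- the fibres
  let f : ConjClasses σ.ker → ConjClasses G := ConjClasses.map σ.ker.subtype
  have hfib : ∀ x : G, σ x = 1 → (Finset.univ.filter fun D => f D = ConjClasses.mk x).card ≤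
      if NS x then 1 else 2 := by
    intro x hx
    have hconj : ∀ D, f D = ConjClasses.mk x → ∃ (d : σ.ker) (g : G), ConjClasses.mk d = D ∧ g * x * g⁻¹ = d.1 := by
      intro D hD
      obtain ⟨d, rfl⟩ := ConjClasses.mk_surjective D
      obtain ⟨g, hg⟩ := isConj_iff.1 (ConjClasses.mk_eq_mk_iff_isConj.1 (show ConjClasses.mk x = _ from hD.symm))
      exact ⟨d, g, rfl, hg⟩
    have hsame : ∀ (D D' : ConjClasses σ.ker) (d d' : σ.ker) (g g' : G), ConjClasses.mk d = D →
        ConjClasses.mk d' = D' → g * x * g⁻¹ = d.1 → g' * x * g'⁻¹ = d'.1 →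
        (σ g = σ g' ∨ NS x) → D = D' := by
      rintro _ _ d d' g g' rfl rfl hg hg' hcase
      obtain ⟨w, hw, hwσ⟩ : ∃ w, Commute x w ∧ σ (g' * w * g⁻¹) = 1 := by
        rcases hcase with h | ⟨-, y, hy1, hy2⟩
        · exact ⟨1, Commute.one_right x, by rw [mul_one, map_mul, map_inv, h, mul_inv_cancel]⟩
        · rcases sig_cases σ g with a | a <;> rcases sig_cases σ g' with b | b
          · exact ⟨1, Commute.one_right x, by simp [a, b]⟩
          · exact ⟨y, hy1, by simp [a, b, hy2]⟩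
          · exact ⟨y, hy1, by simp [a, b, hy2]⟩
          · exact ⟨1, Commute.one_right x, by simp [a, b]⟩
      refine ConjClasses.mk_eq_mk_iff_isConj.2 (isConj_iff.2 ⟨⟨g' * w * g⁻¹, hwσ⟩, Subtype.ext ?_⟩)
      show g' * w * g⁻¹ * d.1 * (g' * w * g⁻¹)⁻¹ = d'.1
      rw [← hg, ← hg', show g' * w * g⁻¹ * (g * x * g⁻¹) * (g' * w * g⁻¹)⁻¹ = g' * (w * x * w⁻¹) * g'⁻¹ by group,
        hw.eq.symm, mul_inv_cancel_right]
    have hmem : ∀ D ∈ Finset.univ.filter (fun D => f D = ConjClasses.mk x), ∃ (d : σ.ker) (g : G),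
        ConjClasses.mk d = D ∧ g * x * g⁻¹ = d.1 := fun D hD => hconj D (Finset.mem_filter.1 hD).2
    choose! d g hd hg using hmem
    have key := Finset.card_le_card_of_injOn (fun D => if NS x then 1 else σ (g D))
      (t := if NS x then ({1} : Finset ℤˣ) else Finset.univ)
      (s := Finset.univ.filter fun D => f D = ConjClasses.mk x)
      (fun D _ => by split_ifs <;> simp [Int.units_eq_one_or])
      (fun D hD D' hD' h => by
        refine hsame D D' _ _ _ _ (hd D hD) (hd D' hD') (hg D hD) (hg D' hD') ?_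
        by_cases hn : NS x
        · exact Or.inr hn
        · simp only [if_neg hn] at h; exact Or.inl h)
    refine key.trans ?_
    split_ifs <;> simp
  have hup : Nat.card (ConjClasses σ.ker) ≤ Nat.card (PClasses NS) + 2 * Nat.card (PClasses SP) := by
    rw [hcard, hcard, Finset.mul_sum, ← Finset.sum_add_distrib, Nat.card_eq_fintype_card, ← Finset.card_univ,
      Finset.card_eq_sum_card_fiberwise (f := f) (t := Finset.univ) fun x _ => Finset.mem_univ _]
    refine Finset.sum_le_sum fun C _ => ?_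
    obtain ⟨x, rfl⟩ := ConjClasses.mk_surjective C
    have i2 : (∃ y, ConjClasses.mk y = ConjClasses.mk x ∧ NS y) ↔ NS x := ⟨hP _ hNS x, fun h => ⟨x, rfl, h⟩⟩
    have i3 : (∃ y, ConjClasses.mk y = ConjClasses.mk x ∧ SP y) ↔ SP x := ⟨hP _ hSP x, fun h => ⟨x, rfl, h⟩⟩
    simp only [i2, i3]
    rcases hex x with ⟨a, b, c⟩ | ⟨a, b, c⟩ | ⟨a, b, c⟩
    · rw [Finset.card_eq_zero.2 (Finset.filter_eq_empty_iff.2 fun D _ h => ?_)]
      · exact Nat.zero_le _
      · obtain ⟨d, rfl⟩ := ConjClasses.mk_surjective D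
        obtain ⟨g, hg⟩ := isConj_iff.1 (ConjClasses.mk_eq_mk_iff_isConj.1 h)
        refine hne ?_
        rw [← a, ← hg]
        exact ((hσc g _).trans (MonoidHom.mem_ker.1 d.2)).symm
    · refine (hfib x ((sig_cases σ x).resolve_right a)).trans ?_
      simp [b]
    · refine (hfib x c.1).trans ?_
      simp [b, c]
  have hlow : Nat.card (PClasses NS) + Nat.card (PClasses SP) ≤ Nat.card (ConjClasses σ.ker) := by
    rw [hcard, hcard, ← Finset.sum_add_distrib, Nat.card_eq_fintype_card, ← Finset.card_univ,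
      Finset.card_eq_sum_card_fiberwise (f := f) (t := Finset.univ) fun x _ => Finset.mem_univ _]
    refine Finset.sum_le_sum fun C _ => ?_
    obtain ⟨x, rfl⟩ := ConjClasses.mk_surjective C
    have i2 : (∃ y, ConjClasses.mk y = ConjClasses.mk x ∧ NS y) ↔ NS x := ⟨hP _ hNS x, fun h => ⟨x, rfl, h⟩⟩
    have i3 : (∃ y, ConjClasses.mk y = ConjClasses.mk x ∧ SP y) ↔ SP x := ⟨hP _ hSP x, fun h => ⟨x, rfl, h⟩⟩
    simp only [i2, i3]
    rcases hex x with ⟨a, b, c⟩ | ⟨a, b, c⟩ | ⟨a, b, c⟩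
    · simp [b, c]
    all_goals
      have hx : σ x = 1 := (sig_cases σ x).resolve_right a
      have hpos : 0 < (Finset.univ.filter fun D => f D = ConjClasses.mk x).card :=
        Finset.card_pos.2 ⟨ConjClasses.mk ⟨x, hx⟩, Finset.mem_filter.2 ⟨Finset.mem_univ _, rfl⟩⟩
      simp only [b, c, if_true, if_false]
      omega
  refine ⟨?_, ?_, ?_⟩ <;> omega

end Cfsg.Agent.IndexTwo
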